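import Groth.Agent.ProjCoh.MulData
import Groth.Prelude.Def_Twist2

/-!
# Multiplication data on `Proj` from the twisting sheaves
-/

set_option autoImplicit false

universe u

open CategoryTheory TopologicalSpace AlgebraicGeometry Opposite
open Groth.Agent.PullbackMod Groth.Agent.CohBase
open HomogeneousLocalization

noncomputable section

namespace Groth.Agent.ProjCoh

variable {R A : Type u} [CommRing R] [CommRing A] [Algebra R A] {𝒜 : ℕ → Submodule R A} [GradedAlgebra 𝒜]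

lemma one_notMem (x : ProjectiveSpectrum 𝒜) : (1 : A) ∉ x.asHomogeneousIdeal := fun h =>
  x.isPrime.ne_top ((Ideal.eq_top_iff_one _).mpr h)

/-- Multiplication by `g / 1` in the localization. -/
def mulLoc (g : A) (x : ProjectiveSpectrum 𝒜) (q : Twist.Loc 𝒜 x) : Twist.Loc 𝒜 x :=
  Localization.mk g ⟨1, one_notMem x⟩ * q

lemma mulLoc_mem (g : 𝒜 1) (d : ℤ) (x : ProjectiveSpectrum 𝒜) {q : Twist.Loc 𝒜 x}
    (hq : q ∈ Twist.twistAt 𝒜 (d - 1) x) : mulLoc g.1 x q ∈ Twist.twistAt 𝒜 d x := by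
  induction hq using Submodule.span_induction with
  | mem q hq =>
    obtain ⟨i, j, a, s, hs, he, rfl⟩ := hq
    refine Submodule.subset_span ⟨i + 1, j, ⟨g.1 * a.1, ?_⟩, s, hs, by push_cast; omega, ?_⟩
    · rw [add_comm]
      exact SetLike.mul_mem_graded g.2 a.2
    · rw [mulLoc, Localization.mk_mul]
      congr 1
      exact Subtype.ext (one_mul _)
  | zero => simp [mulLoc]
  | add p q _ _ hp hq => rw [mulLoc, mul_add]; exact add_mem hp hq
  | smul c q _ hq =>
    have : mulLoc g.1 x (c • q) = c • mulLoc g.1 x q := by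
      rw [mulLoc, mulLoc, Algebra.smul_def, Algebra.smul_def, mul_left_comm]
    rw [this]
    exact Submodule.smul_mem _ _ hq

/-- Multiplication on sections. -/
def mulSect (g : 𝒜 1) (d : ℤ) (U : (Opens (ProjectiveSpectrum.top 𝒜))ᵒᵖ)
    (f : Twist.sectN (𝒜 := 𝒜) (d - 1) U) : Twist.sectN (𝒜 := 𝒜) d U :=
  ⟨fun x => ⟨mulLoc g.1 x.1 (f.1 x).1, mulLoc_mem g d x.1 (f.1 x).2⟩, fun x => by
    obtain ⟨V, hV, iV, i, j, a, s, nin, hc, hw⟩ := f.2 x
    refine ⟨V, hV, iV, i + 1, j, ⟨g.1 * a.1, by rw [add_comm]; exact SetLike.mul_mem_graded g.2 a.2⟩,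
      s, nin, ?_, fun y => ?_⟩
    · rcases hc with hc | hc
      · exact Or.inl (by push_cast; omega)
      · exact Or.inr (show g.1 * a.1 = 0 by rw [hc, mul_zero])
    · show mulLoc g.1 _ (f.1 (iV y)).1 = _
      rw [hw y, mulLoc, Localization.mk_mul]
      congr 1
      exact Subtype.ext (one_mul _)⟩

variable (𝒜) in
/-- Multiplication by a form of degree one. -/
def mulTwist (g : 𝒜 1) (d : ℤ) : Twist.twist 𝒜 (d - 1) ⟶ Twist.twist 𝒜 d :=
  SheafOfModules.Hom.mk <| PresheafOfModules.homMk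
    { app := fun U => AddCommGrpCat.ofHom
        { toFun := mulSect g d U
          map_zero' := Subtype.ext (funext fun x => Subtype.ext (mul_zero _))
          map_add' := fun f f' => Subtype.ext (funext fun x => Subtype.ext (mul_add _ _ _)) }
      naturality := fun U V i => rfl }
    (fun U c f => by
      refine Subtype.ext (funext fun x => Subtype.ext ?_)
      show mulLoc g.1 x.1 ((c.1 x • f.1 x : Twist.twistAt 𝒜 (d - 1) x.1) : Twist.Loc 𝒜 x.1) =
        ((c.1 x • (mulSect g d U f).1 x : Twist.twistAt 𝒜 d x.1) : Twist.Loc 𝒜 x.1)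
      rw [Twist.coe_smul_val, Twist.coe_smul_val, mulLoc, mul_left_comm]
      rfl)

lemma mulTwist_app (g : 𝒜 1) (d : ℤ) (U : (Proj 𝒜).Opens) (f : Γ(Twist.twist 𝒜 (d - 1), U)) :
    (mulTwist 𝒜 g d).app U f = mulSect g d (op U) f := rfl

theorem mulTwist_bijective (g : 𝒜 1) (d : ℤ) {V : (Proj 𝒜).Opens} (hV : V ≤ Proj.basicOpen 𝒜 g.1) :
    Function.Bijective ((mulTwist 𝒜 g d).app V) := by
  have hinv : ∀ x : V, Localization.mk g.1 ⟨1, one_notMem x.1⟩ *
      Localization.mk (1 : A) ⟨g.1, hV x.2⟩ = (1 : Twist.Loc 𝒜 x.1) := fun x => by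
    rw [Localization.mk_mul, mul_one]
    refine (Localization.mk_eq_mk_iff.2 (Localization.r_iff_exists.2 ⟨1, ?_⟩)).trans Localization.mk_one
    simp
  refine ⟨fun f f' h => ?_, fun f => ?_⟩
  · refine Subtype.ext (funext fun x => Subtype.ext ?_)
    have hx := congrArg (fun q : Twist.twistAt 𝒜 d x.1 => (q : Twist.Loc 𝒜 x.1))
      (congrFun (congrArg Subtype.val h) x)
    exact (IsUnit.of_mul_eq_one _ (hinv x)).mul_left_cancel hx
  · have mem : ∀ (x : V), ∀ q ∈ Twist.twistAt 𝒜 d x.1,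
        Localization.mk (1 : A) ⟨g.1, hV x.2⟩ * q ∈ Twist.twistAt 𝒜 (d - 1) x.1 := by
      intro x q hq
      induction hq using Submodule.span_induction with
      | mem q hq =>
        obtain ⟨i, j, a, s, hs, he, rfl⟩ := hq
        refine Submodule.subset_span ⟨i, 1 + j, a, ⟨g.1 * s.1, SetLike.mul_mem_graded g.2 s.2⟩,
          fun h => (x.1.isPrime.mem_or_mem h).elim (hV x.2) hs, by push_cast; omega, ?_⟩
        rw [Localization.mk_mul, one_mul]
        rfl
      | zero => simp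
      | add p q _ _ hp hq => rw [mul_add]; exact add_mem hp hq
      | smul c q _ hq =>
        rw [show Localization.mk (1 : A) ⟨g.1, hV x.2⟩ * (c • q) =
          c • (Localization.mk (1 : A) ⟨g.1, hV x.2⟩ * q) by
            rw [Algebra.smul_def, Algebra.smul_def, mul_left_comm]]
        exact Submodule.smul_mem _ _ hq
    refine ⟨⟨fun x => ⟨_, mem x _ (f.1 x).2⟩, fun x => ?_⟩, Subtype.ext (funext fun x => Subtype.ext ?_)⟩
    · obtain ⟨W, hW, iW, i, j, a, s, nin, hc, hw⟩ := f.2 x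
      refine ⟨W, hW, iW, i, 1 + j, a, ⟨g.1 * s.1, SetLike.mul_mem_graded g.2 s.2⟩,
        fun y h => (y.1.isPrime.mem_or_mem h).elim (hV (iW y).2) (nin y), ?_, fun y => ?_⟩
      · rcases hc with hc | hc
        · exact Or.inl (by push_cast; omega)
        · exact Or.inr hc
      · show Localization.mk (1 : A) _ * (f.1 (iW y)).1 = _
        rw [hw y, Localization.mk_mul, one_mul]
        rfl
    · show mulLoc g.1 x.1 (Localization.mk (1 : A) ⟨g.1, hV x.2⟩ * (f.1 x).1) = (f.1 x).1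
      rw [mulLoc, ← mul_assoc, hinv, one_mul]

variable (𝒜) in
/-- The ratio `a / g` on the basic open of `g`. -/
def ratioSec (g a : 𝒜 1) : Γ(Proj 𝒜, Proj.basicOpen 𝒜 g.1) :=
  ⟨fun x => HomogeneousLocalization.mk ⟨1, a, g, x.2⟩, fun x =>
    ⟨Proj.basicOpen 𝒜 g.1, x.2, 𝟙 _, 1, a, g, fun y => y.2, fun _ => rfl⟩⟩

theorem basicOpen_ratioSec (g a : 𝒜 1) :
    (Proj 𝒜).basicOpen (ratioSec 𝒜 g a) = Proj.basicOpen 𝒜 g.1 ⊓ Proj.basicOpen 𝒜 a.1 := by
  have key : ∀ (x : Proj 𝒜) (hx : x ∈ Proj.basicOpen 𝒜 g.1),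
      IsUnit ((Proj 𝒜).presheaf.germ _ x hx (ratioSec 𝒜 g a)) ↔ a.1 ∉ x.asHomogeneousIdeal := by
    intro x hx
    refine (isUnit_map_iff (Proj.stalkIso' 𝒜 x) _).symm.trans ?_
    erw [Proj.stalkIso'_germ]
    rw [← HomogeneousLocalization.isUnit_iff_isUnit_val]
    show IsUnit (Localization.mk a.1 (⟨g.1, hx⟩ : x.asHomogeneousIdeal.toIdeal.primeCompl)) ↔ _
    rw [Localization.mk_eq_mk', IsLocalization.AtPrime.isUnit_mk'_iff _ x.asHomogeneousIdeal.toIdeal]
    rfl
  ext x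
  constructor
  · intro h
    have hxU := (Proj 𝒜).basicOpen_le _ h
    exact ⟨hxU, (key x hxU).1 ((Scheme.mem_basicOpen _ _ x hxU).1 h)⟩
  · rintro ⟨hxU, ha⟩
    exact (Scheme.mem_basicOpen _ _ x hxU).2 ((key x hxU).2 ha)

theorem mulTwist_ratio (g a : 𝒜 1) (d : ℤ) (V : (Proj 𝒜).Opens) (hV : V ≤ Proj.basicOpen 𝒜 g.1)
    (f : Γ(Twist.twist 𝒜 (d - 1), V)) :
    (mulTwist 𝒜 a d).app V f =
      (Proj 𝒜).presheaf.map (homOfLE hV).op (ratioSec 𝒜 g a) • (mulTwist 𝒜 g d).app V f := by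
  refine Subtype.ext (funext fun x => Subtype.ext ?_)
  show mulLoc a.1 x.1 (f.1 x).1 =
    ((HomogeneousLocalization.mk ⟨1, a, g, hV x.2⟩ : Twist.A0 𝒜 x.1) •
      (mulSect g d (op V) f).1 x : Twist.twistAt 𝒜 d x.1).1
  rw [Twist.coe_smul_val, val_mk]
  show mulLoc a.1 x.1 (f.1 x).1 = _ * mulLoc g.1 x.1 (f.1 x).1
  rw [mulLoc, mulLoc, ← mul_assoc, Localization.mk_mul]
  congr 1
  rw [Localization.mk_eq_mk_iff, Localization.r_iff_exists]
  exact ⟨1, by simp [mul_comm]⟩

variable (𝒜) in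
/-- The multiplication data of the twisting sheaves. -/
def twistMulData {ι : Type} (g : ι → 𝒜 1) (hg : ⨆ i, Proj.basicOpen 𝒜 (g i).1 = ⊤) :
    MulData (Proj 𝒜) ι where
  U i := Proj.basicOpen 𝒜 (g i).1
  cover := hg
  F := Twist.twist 𝒜
  μ i d := mulTwist 𝒜 (g i) d
  t i a := ratioSec 𝒜 (g i) (g a)
  t_open i a := basicOpen_ratioSec _ _
  bij i d _ hx := stalk_bijective_of_app _ (fun _ hV => mulTwist_bijective (g i) d hV) hx
  ratio i a d _ hx z :=
    stalk_ratio_of_app _ _ _ (fun V hV s => mulTwist_ratio (g i) (g a) d V hV s) hx z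

lemma val_mem_twistAt {x : ProjectiveSpectrum 𝒜} (c : Twist.A0 𝒜 x) :
    c.val ∈ Twist.twistAt 𝒜 0 x := by
  obtain ⟨⟨j, a, s, hs⟩, rfl⟩ := HomogeneousLocalization.mk_surjective c
  exact Submodule.subset_span ⟨j, j, a, s, hs, by simp, val_mk _⟩

lemma exists_val {x : ProjectiveSpectrum 𝒜} {q : Twist.Loc 𝒜 x} (hq : q ∈ Twist.twistAt 𝒜 0 x) :
    ∃ c : Twist.A0 𝒜 x, c.val = q := by
  induction hq using Submodule.span_induction with
  | mem q hq =>
    obtain ⟨i, j, a, s, hs, he, rfl⟩ := hq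
    obtain rfl : i = j := by omega
    exact ⟨HomogeneousLocalization.mk ⟨i, a, s, hs⟩, val_mk _⟩
  | zero => exact ⟨0, by simp⟩
  | add p q _ _ hp hq =>
    obtain ⟨c, rfl⟩ := hp
    obtain ⟨c', rfl⟩ := hq
    exact ⟨c + c', by simp⟩
  | smul b q _ hq =>
    obtain ⟨c, rfl⟩ := hq
    exact ⟨b * c, by rw [Algebra.smul_def, HomogeneousLocalization.algebraMap_apply, val_mul]⟩

variable (𝒜) in
/-- `O → O(0)`. -/
def unitToTwist : Coh.structureModule (Proj 𝒜) ⟶ Twist.twist 𝒜 0 :=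
  SheafOfModules.Hom.mk <| PresheafOfModules.homMk
    { app := fun U => AddCommGrpCat.ofHom
        { toFun := fun c : Twist.O U => (⟨fun x => ⟨(c.1 x).val, val_mem_twistAt _⟩, fun x => by
            obtain ⟨V, hV, iV, j, a, s, nin, hw⟩ := c.2 x
            refine ⟨V, hV, iV, j, j, a, s, nin, Or.inl (by simp), fun y => ?_⟩
            exact (congrArg HomogeneousLocalization.val (hw y)).trans (val_mk _)⟩ : Twist.sectN (𝒜 := 𝒜) 0 U)
          map_zero' := Subtype.ext (funext fun x => Subtype.ext val_zero)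
          map_add' := fun f f' => Subtype.ext (funext fun x => Subtype.ext (val_add ..)) }
      naturality := fun U V i => rfl }
    (fun U c f => by
      refine Subtype.ext (funext fun x => Subtype.ext ?_)
      exact (val_mul (c.1 x) (f.1 x)).trans (Twist.coe_smul_val 0 x.1 (c.1 x) ⟨(f.1 x).val, val_mem_twistAt _⟩).symm)

theorem unitToTwist_bijective (V : (Proj 𝒜).Opens) :
    Function.Bijective ((unitToTwist 𝒜).app V) := by
  refine ⟨fun c c' h => Subtype.ext (funext fun x => HomogeneousLocalization.val_injective _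
    (congrArg (fun q : Twist.twistAt 𝒜 0 x.1 => (q : Twist.Loc 𝒜 x.1))
      (congrFun (congrArg Subtype.val h) x))), fun f => ?_⟩
  choose c hc using fun x : V => exists_val (f.1 x).2
  refine ⟨⟨c, fun x => ?_⟩, Subtype.ext (funext fun x => Subtype.ext (hc x))⟩
  obtain ⟨W, hW, iW, i, j, a, s, nin, he, hw⟩ := f.2 x
  rcases he with he | he
  · obtain rfl : i = j := by omega
    exact ⟨W, hW, iW, i, a, s, nin, fun y => HomogeneousLocalization.val_injective _
      ((hc _).trans ((hw y).trans (val_mk (⟨i, a, s, nin y⟩ : NumDenSameDeg 𝒜 _)).symm))⟩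
  · exact ⟨W, hW, iW, j, 0, s, nin, fun y => HomogeneousLocalization.val_injective _
      ((hc _).trans ((hw y).trans (by rw [val_mk, he]; simp [Localization.mk_zero])))⟩

instance isIso_unitToTwist : IsIso (unitToTwist 𝒜) :=
  (isIso_iff_stalk _).2 fun x => stalk_bijective_of_app _ (U := ⊤)
    (fun V _ => unitToTwist_bijective V) (x := x) trivial

end Groth.Agent.ProjCoh
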