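import Groth.Agent.ProjCoh.Cohom
import Groth.Agent.ProjCoh.Twist
import Groth.Agent.ProjClosed.Main
import Groth.Agent.QCohLib.Coherent
import Groth.Agent.DCohLib.TensorPerf

/-!
# Coherent cohomology on closed subschemes of `Proj`, `A` generated in degree one
-/

set_option autoImplicit false

universe u

open CategoryTheory TopologicalSpace AlgebraicGeometry Opposite
open Groth.Agent.CohBase

noncomputable section

namespace Groth.Agent.ProjCoh

variable {X Y : Scheme.{u}}

instance final_opens_map (f : X ⟶ Y) : (Opens.map f.base).Final := ⟨fun W => by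
    let t : StructuredArrow W (Opens.map f.base) :=
      StructuredArrow.mk (Y := (⊤ : Y.Opens)) (homOfLE le_top)
    have : Nonempty (StructuredArrow W (Opens.map f.base)) := ⟨t⟩
    refine zigzag_isConnected fun a b => ?_
    exact (Zigzag.of_hom (StructuredArrow.homMk (homOfLE le_top) (Subsingleton.elim _ _) : a ⟶ t)).trans
      (Zigzag.of_inv (StructuredArrow.homMk (homOfLE le_top) (Subsingleton.elim _ _) : b ⟶ t))⟩

/-- The inverse image of the structure sheaf. -/
def pullUnit (f : X ⟶ Y) :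
    (Scheme.Modules.pullback f).obj (Coh.structureModule Y) ≅ Coh.structureModule X :=
  have : (SheafOfModules.pushforward f.toRingCatSheafHom).IsRightAdjoint :=
    (Scheme.Modules.pullbackPushforwardAdjunction f).isRightAdjoint
  have h : IsIso (SheafOfModules.pullbackObjUnitToUnit f.toRingCatSheafHom) :=
    @SheafOfModules.instIsIsoPullbackObjUnitToUnitOfFinal _ _ _ _ _ _ (Opens.map f.base) _ _ _
      f.toRingCatSheafHom _ _
  @asIso _ _ _ _ (SheafOfModules.pullbackObjUnitToUnit f.toRingCatSheafHom) h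

lemma smulAb_natural {M N : X.Modules} (f : M ⟶ N) (r : Coh.Γtop X) :
    Coh.smulAb M r ≫ (SheafOfModules.toSheaf X.ringCatSheaf).map f =
      (SheafOfModules.toSheaf X.ringCatSheaf).map f ≫ Coh.smulAb N r := by
  ext U m
  exact (f.val.app U).hom.map_smul _ m

/-- Isomorphic modules have isomorphic cohomology over the global functions. -/
def hhLinearEquiv {M N : X.Modules} (e : M ≅ N) (n : ℕ) :
    Coh.HH X M n ≃ₗ[Coh.Γtop X] Coh.HH X N n where
  toFun := Sheaf.H.map ((SheafOfModules.toSheaf X.ringCatSheaf).map e.hom) n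
  invFun := Sheaf.H.map ((SheafOfModules.toSheaf X.ringCatSheaf).map e.inv) n
  left_inv x := by
    rw [← Sheaf.H.map_comp_apply]
    exact (congrArg (fun k => Sheaf.H.map k n x)
      ((SheafOfModules.toSheaf X.ringCatSheaf).mapIso e).hom_inv_id).trans (Sheaf.H.map_id_apply x)
  right_inv x := by
    rw [← Sheaf.H.map_comp_apply]
    exact (congrArg (fun k => Sheaf.H.map k n x)
      ((SheafOfModules.toSheaf X.ringCatSheaf).mapIso e).inv_hom_id).trans (Sheaf.H.map_id_apply x)
  map_add' := map_add _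
  map_smul' r x := by
    show Sheaf.H.map _ n (Sheaf.H.map (Coh.smulAb M r) n x) =
      Sheaf.H.map (Coh.smulAb N r) n (Sheaf.H.map _ n x)
    rw [← Sheaf.H.map_comp_apply, ← Sheaf.H.map_comp_apply, smulAb_natural]

/-- Finiteness passes along isomorphisms. -/
theorem finite_compHom_of_iso {B : Type u} [CommRing B] (φ : B →+* Coh.Γtop X) {M N : X.Modules}
    (e : M ≅ N) (n : ℕ)
    (h : @Module.Finite B (Coh.HH X M n) _ _ (Module.compHom (Coh.HH X M n) φ)) :
    @Module.Finite B (Coh.HH X N n) _ _ (Module.compHom (Coh.HH X N n) φ) :=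
  letI := Module.compHom (Coh.HH X M n) φ
  letI := Module.compHom (Coh.HH X N n) φ
  haveI : Module.Finite B (Coh.HH X M n) := h
  Module.Finite.of_surjective
    ({ toFun := hhLinearEquiv e n, map_add' := map_add _,
       map_smul' := fun b x => (hhLinearEquiv e n).map_smul (φ b) x } :
      Coh.HH X M n →ₗ[B] Coh.HH X N n) (hhLinearEquiv e n).surjective

theorem subsingleton_of_iso {M N : X.Modules} (e : M ≅ N) (n : ℕ) [Subsingleton (Coh.HH X M n)] :
    Subsingleton (Coh.HH X N n) :=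
  (hhLinearEquiv e n).toEquiv.symm.subsingleton

theorem isCoh_of_iso {M N : X.Modules} (e : M ≅ N) (h : Coh.IsCoh M) : Coh.IsCoh N := by
  haveI : Coh.IsQCoh N := (SheafOfModules.isQuasicoherent X.ringCatSheaf).prop_of_iso e h.1
  refine QCohLib.isCoh_of_finite N fun W hW => ?_
  haveI := QCohLib.finite_sections_of_isCoh h hW
  exact Module.Finite.of_surjective
    ({ toFun := e.hom.app W, map_add' := map_add (e.hom.app W).hom,
       map_smul' := fun c s => Scheme.Modules.Hom.app_smul e.hom c s } : Γ(M, W) →ₗ[Γ(X, W)] Γ(N, W))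
    fun y => ⟨e.inv.app W y, congrArg (fun g => g.app W y) e.inv_hom_id⟩

section Proj

variable {R A : Type u} [CommRing R] [CommRing A] [Algebra R A] (𝒜 : ℕ → Submodule R A) [GradedAlgebra 𝒜]

/-- The structure map of `Proj`. -/
def projToSpec : Proj 𝒜 ⟶ Spec (CommRingCat.of R) :=
  Proj.toSpecZero 𝒜 ≫ Spec.map (CommRingCat.ofHom (algebraMap R (𝒜 0)))

/-- Constants as global functions. -/
def projφ : R →+* Γ(Proj 𝒜, ⊤) := Coh.toGlobal (projToSpec 𝒜)

/-- Constants in the ring of a standard chart. -/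
def awayConst (f : A) : R →+* HomogeneousLocalization.Away 𝒜 f :=
  (HomogeneousLocalization.fromZeroRingHom 𝒜 _).comp (algebraMap R (𝒜 0))

lemma φV_projφ {m : ℕ} {f : A} (f_deg : f ∈ 𝒜 m) (hm : 0 < m) (r : R) :
    φV (projφ 𝒜) (Proj.basicOpen 𝒜 f) r = Proj.awayToSection 𝒜 f (awayConst 𝒜 f r) := by
  have h : (Proj.basicOpen 𝒜 f).ι ≫ projToSpec 𝒜 =
      (Proj.basicOpen 𝒜 f).toSpecΓ ≫
        Spec.map (CommRingCat.ofHom (awayConst 𝒜 f) ≫ Proj.awayToSection 𝒜 f) := by
    rw [(Iso.inv_comp_eq _).1 (Proj.basicOpenIsoSpec_inv_ι 𝒜 f f_deg hm), Category.assoc,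
      Proj.basicOpenIsoSpec_hom, projToSpec, Proj.awayι_toSpecZero_assoc, Proj.basicOpenToSpec,
      Category.assoc, ← Spec.map_comp, ← Spec.map_comp]
    rfl
  have h' := congrArg Scheme.Hom.appTop h
  rw [Scheme.Hom.comp_appTop, Scheme.Hom.comp_appTop, Scheme.Opens.toSpecΓ_appTop,
    Scheme.Opens.ι_appTop] at h'
  have e := congrArg (fun k => (Scheme.ΓSpecIso (CommRingCat.of R)).inv ≫ k ≫
    (Proj.basicOpen 𝒜 f).topIso.hom) h'
  simp only [Category.assoc, Scheme.Opens.topIso_inv, Scheme.Opens.topIso_hom,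
    ← (Proj 𝒜).presheaf.map_comp, Scheme.ΓSpecIso_naturality_assoc, Iso.inv_hom_id_assoc] at e
  refine Eq.trans ?_ (congr($(e).hom r))
  rfl

/-- The ratio as an element of the chart ring. -/
def awayRatio {f : A} (hf : f ∈ 𝒜 1) (a : 𝒜 1) : HomogeneousLocalization.Away 𝒜 f :=
  HomogeneousLocalization.Away.mk 𝒜 hf 1 a.1 (by simpa using a.2)

lemma awayToSection_ratio (g a : 𝒜 1) :
    Proj.awayToSection 𝒜 g.1 (awayRatio 𝒜 g.2 a) = ratioSec 𝒜 g a := by
  refine Subtype.ext (funext fun x => HomogeneousLocalization.val_injective _ ?_)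
  show HomogeneousLocalization.val (HomogeneousLocalization.mk _) =
    HomogeneousLocalization.val (HomogeneousLocalization.mk _)
  simp only [HomogeneousLocalization.val_mk]
  congr 1
  exact Subtype.ext (pow_one g.1)

variable {ι : Type} (g : ι → 𝒜 1) (hgen : Algebra.adjoin R (Set.range fun i => (g i).1) = ⊤)

include hgen in
lemma cover_of_adjoin : ⨆ i, Proj.basicOpen 𝒜 (g i).1 = ⊤ := by
  refine Proj.iSup_basicOpen_eq_top' 𝒜 _ (fun i => ⟨1, (g i).2⟩) (top_le_iff.1 fun x _ => ?_)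
  have hx : x ∈ Algebra.adjoin R (Set.range fun i => (g i).1) := hgen ▸ trivial
  induction hx using Algebra.adjoin_induction with
  | mem y hy => exact Algebra.subset_adjoin hy
  | algebraMap r => exact Subalgebra.algebraMap_mem _ (algebraMap R (𝒜 0) r)
  | add y z _ _ hy hz => exact add_mem (hy trivial) (hz trivial)
  | mul y z _ _ hy hz => exact mul_mem (hy trivial) (hz trivial)

include hgen in
theorem ratio_generated_proj (i : ι) :
    Function.Surjective (MvPolynomial.eval₂Hom (φV (projφ 𝒜) (Proj.basicOpen 𝒜 (g i).1))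
      (fun a => ratioSec 𝒜 (g i) (g a))) := by
  intro s
  obtain ⟨z, rfl⟩ : ∃ z, Proj.awayToSection 𝒜 (g i).1 z = s :=
    ((ConcreteCategory.bijective_of_isIso
      (Proj.basicOpenIsoAway 𝒜 (g i).1 (g i).2 one_pos).hom).2 s)
  obtain ⟨n, a, ha, rfl⟩ := ProjClosed.τ_surjective (g i).2 z
  let ψ : A →+* Γ(Proj 𝒜, Proj.basicOpen 𝒜 (g i).1) :=
    (Proj.awayToSection 𝒜 (g i).1).hom.comp (ProjClosed.τ (g i).2)
  have hψ : ψ.comp (MvPolynomial.aeval fun a => (g a).1 : MvPolynomial ι R →ₐ[R] A).toRingHom =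
      MvPolynomial.eval₂Hom (φV (projφ 𝒜) (Proj.basicOpen 𝒜 (g i).1))
        (fun a => ratioSec 𝒜 (g i) (g a)) := by
    refine MvPolynomial.ringHom_ext (fun r => ?_) fun a => ?_
    · simp only [ψ, RingHom.comp_apply, AlgHom.toRingHom_eq_coe, RingHom.coe_coe,
        MvPolynomial.aeval_C, MvPolynomial.eval₂Hom_C, φV_projφ 𝒜 (g i).2 one_pos]
      refine congrArg (Proj.awayToSection 𝒜 (g i).1).hom (HomogeneousLocalization.val_injective _ ?_)
      rw [show algebraMap R A r = ((algebraMap R (𝒜 0) r : 𝒜 0) : A) from rfl,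
        ProjClosed.τ_apply (g i).2 (algebraMap R (𝒜 0) r).2]
      refine Eq.trans ?_ (HomogeneousLocalization.val_mk _).symm
      congr 1
      exact Subtype.ext (pow_zero _)
    · simp only [ψ, RingHom.comp_apply, AlgHom.toRingHom_eq_coe, RingHom.coe_coe,
        MvPolynomial.aeval_X, MvPolynomial.eval₂Hom_X']
      rw [← awayToSection_ratio]
      refine congrArg (Proj.awayToSection 𝒜 (g i).1).hom (HomogeneousLocalization.val_injective _ ?_)
      rw [ProjClosed.τ_apply (g i).2 (g a).2]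
      exact (HomogeneousLocalization.Away.val_mk ..).symm
  obtain ⟨p, rfl⟩ : ∃ p, (MvPolynomial.aeval fun a => (g a).1 : MvPolynomial ι R →ₐ[R] A) p = a := by
    have h : a ∈ Algebra.adjoin R (Set.range fun i => (g i).1) := hgen ▸ trivial
    rwa [Algebra.adjoin_range_eq_range_aeval, AlgHom.mem_range] at h
  exact ⟨p, (RingHom.congr_fun hψ p).symm⟩

lemma inf_basicOpen (S : Finset ι) :
    S.inf (fun i => Proj.basicOpen 𝒜 (g i).1) = Proj.basicOpen 𝒜 (∏ i ∈ S, (g i).1) := by
  classical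
  induction S using Finset.induction_on with
  | empty => simp
  | insert i S hi ih => rw [Finset.inf_insert, Finset.prod_insert hi, Proj.basicOpen_mul, ih]

lemma isAffineOpen_inf (S : Finset ι) (hS : S.Nonempty) :
    IsAffineOpen (S.inf fun i => Proj.basicOpen 𝒜 (g i).1) := by
  rw [inf_basicOpen]
  have h := SetLike.prod_pow_mem_graded 𝒜 (fun _ => 1) (F := S) (g := fun i => (g i).1) (n := fun _ => 1)
    fun i _ => (g i).2
  simp only [pow_one, smul_eq_mul, mul_one, Finset.sum_const] at h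
  exact Proj.isAffineOpen_basicOpen 𝒜 _ h hS.card_pos

variable (f : X ⟶ Proj 𝒜) (M : X.Modules)

/-- The multiplication data of the twists of a module on a scheme over `Proj`. -/
def psMul : MulData X ι :=
  ((twistMulData 𝒜 g (cover_of_adjoin 𝒜 g hgen)).pullback f).tensor M

/-- The zeroth twist. -/
def psZeroIso : (psMul 𝒜 g hgen f M).F 0 ≅ M :=
  ((DCoh.tensorBi (X := X)).obj M).mapIso
    ((Scheme.Modules.pullback f).mapIso (asIso (unitToTwist 𝒜)).symm ≪≫ pullUnit f) ≪≫
    DCohLib.tensorStructureIso M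

/-- Twists of a module, arbitrary degree. -/
def psTwist (d : ℤ) : X.Modules :=
  ((DCoh.tensorBi (X := X)).obj M).obj ((Scheme.Modules.pullback f).obj (Twist.twist 𝒜 d))

variable [DecidableEq ι] [Fintype ι] [IsAffineHom f] (hM : Coh.IsCoh M)

/-- The twisted family. -/
def psData : TwistData X ι :=
  (psMul 𝒜 g hgen f M).toTwistData (isCoh_of_iso (psZeroIso 𝒜 g hgen f M).symm hM).1 fun S hS => by
    have e : S.inf (psMul 𝒜 g hgen f M).U = f ⁻¹ᵁ S.inf fun i => Proj.basicOpen 𝒜 (g i).1 :=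
      (Finset.apply_inf_eq_inf_comp (fun W => f ⁻¹ᵁ W) (fun _ _ => rfl) f.preimage_top).symm
    rw [e]
    exact (isAffineOpen_inf 𝒜 g S hS).preimage f

lemma psData_F (d : ℤ) : (psData 𝒜 g hgen f M hM).F d = psTwist 𝒜 f M d := rfl

/-- Constants on `X`. -/
def psφ : R →+* Γ(X, ⊤) := f.appTop.hom.comp (projφ 𝒜)

omit [DecidableEq ι] [Fintype ι] in
lemma φV_psφ (V : (Proj 𝒜).Opens) (r : R) :
    φV (psφ 𝒜 f) (f ⁻¹ᵁ V) r = f.app V (φV (projφ 𝒜) V r) :=
  (congr($(f.naturality (homOfLE (le_top : V ≤ ⊤)).op).hom (projφ 𝒜 r))).symm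

lemma psData_hfin (i : ι) :
    Module.Finite Γ(X, (psData 𝒜 g hgen f M hM).U i)
      Γ((psData 𝒜 g hgen f M hM).F 0, (psData 𝒜 g hgen f M hM).U i) :=
  QCohLib.finite_sections_of_isCoh (isCoh_of_iso (psZeroIso 𝒜 g hgen f M).symm hM)
    (((Proj.isAffineOpen_basicOpen 𝒜 _ (g i).2 one_pos)).preimage f)

variable [IsClosedImmersion f]

lemma psData_gen : (psData 𝒜 g hgen f M hM).RatioGenerated (psφ 𝒜 f) := by
  intro i s
  obtain ⟨s, rfl⟩ := f.app_surjective (Proj.basicOpen 𝒜 (g i).1)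
    (Proj.isAffineOpen_basicOpen 𝒜 _ (g i).2 one_pos) s
  obtain ⟨p, rfl⟩ := ratio_generated_proj 𝒜 g hgen i s
  refine ⟨p, ?_⟩
  have h : (f.app (Proj.basicOpen 𝒜 (g i).1)).hom.comp
      (MvPolynomial.eval₂Hom (φV (projφ 𝒜) (Proj.basicOpen 𝒜 (g i).1)) fun a => ratioSec 𝒜 (g i) (g a)) =
      MvPolynomial.eval₂Hom (φV (psφ 𝒜 f) ((psData 𝒜 g hgen f M hM).U i)) ((psData 𝒜 g hgen f M hM).t i) := by
    refine MvPolynomial.ringHom_ext (fun r => ?_) fun a => ?_
    · rw [RingHom.comp_apply, MvPolynomial.eval₂Hom_C]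
      exact (φV_psφ 𝒜 f _ r).symm.trans (MvPolynomial.eval₂Hom_C _ _ _).symm
    · rw [RingHom.comp_apply, MvPolynomial.eval₂Hom_X']
      exact (MvPolynomial.eval₂Hom_X' (φV (psφ 𝒜 f) ((psData 𝒜 g hgen f M hM).U i))
        ((psData 𝒜 g hgen f M hM).t i) a).symm
  exact (RingHom.congr_fun h p).symm

include g hgen hM in
/-- Finiteness of the cohomology of the twists. -/
theorem finite_psTwist [IsNoetherianRing R] (d : ℤ) (p : ℕ) :
    @Module.Finite R (Coh.HH X (psTwist 𝒜 f M d) p) _ _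
      (Module.compHom (Coh.HH X (psTwist 𝒜 f M d) p) (topHom (psφ 𝒜 f))) :=
  (psData 𝒜 g hgen f M hM).finite_HH (psφ 𝒜 f) (psData_gen 𝒜 g hgen f M hM)
    (psData_hfin 𝒜 g hgen f M hM) d p

include g hgen hM in
/-- Serre vanishing. -/
theorem exists_vanishing [IsNoetherianRing R] (p : ℕ) (hp : 0 < p) :
    ∃ d₀ : ℤ, ∀ d, d₀ ≤ d → Subsingleton (Coh.HH X (psTwist 𝒜 f M d) p) :=
  (psData 𝒜 g hgen f M hM).exists_subsingleton_HH (psφ 𝒜 f) (psData_gen 𝒜 g hgen f M hM)
    (psData_hfin 𝒜 g hgen f M hM) p hp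

include g hgen hM in
/-- Finiteness. -/
theorem finite_HH_proj [IsNoetherianRing R] (p : ℕ) :
    @Module.Finite R (Coh.HH X M p) _ _ (Module.compHom (Coh.HH X M p) (topHom (psφ 𝒜 f))) :=
  finite_compHom_of_iso _ (psZeroIso 𝒜 g hgen f M) p (finite_psTwist 𝒜 g hgen f M hM 0 p)

lemma toGlobal_comp {B : Type u} [CommRing B] (h : Y ⟶ Spec (CommRingCat.of B)) (k : X ⟶ Y) :
    Coh.toGlobal (k ≫ h) = k.appTop.hom.comp (Coh.toGlobal h) := by
  ext b
  simp only [Coh.toGlobal, Scheme.Hom.comp_appTop, CommRingCat.hom_comp]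
  rfl

include g hgen hM in
/-- Finiteness, for schemes over `Spec R`. -/
theorem finite_HH_over [IsNoetherianRing R] [X.Over (Spec (CommRingCat.of R))]
    (hf : f ≫ projToSpec 𝒜 = X ↘ Spec (CommRingCat.of R)) (p : ℕ) :
    Module.Finite R (Coh.HH X M p) := by
  have h := finite_HH_proj 𝒜 g hgen f M hM p
  have e : topHom (psφ 𝒜 f) = Coh.toGlobal (X ↘ Spec (CommRingCat.of R)) := by
    rw [← hf, toGlobal_comp]
    rfl
  rw [e] at h
  exact h

end Proj

end Groth.Agent.ProjCoh
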