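import Groth.Agent.ProjCoh.SchSys
import Groth.Agent.CohBase.Natural
import Groth.Agent.CohBase.Affine
import Groth.Prelude.Def_Coh

/-!
# Cohomology of twisted families: finiteness and Serre vanishing
-/

set_option autoImplicit false

universe u

open CategoryTheory TopologicalSpace AlgebraicGeometry Opposite
open Groth.Agent.CohBase Groth.Agent.CechSys

noncomputable section

namespace Groth.Agent.ProjCoh

variable {X : Scheme.{u}} {B : Type u} [CommRing B] (φ : B →+* Γ(X, ⊤))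
variable {ι : Type} [DecidableEq ι] [Fintype ι] (T : TwistData X ι)

/-- The structure map to global functions, in the form used by cohomology. -/
def topHom : B →+* Coh.Γtop X := φ

namespace TwistData

/-- Generated by the ratios and the constants. -/
def RatioGenerated : Prop :=
  ∀ i, Function.Surjective (MvPolynomial.eval₂Hom (φV φ (T.U i)) (T.t i))

lemma inf_singleton (i : ι) : ({i} : Finset ι).inf T.U = T.U i := Finset.inf_singleton

lemma exists_pow_act_scS (i : ι) (q : MvPolynomial ι B) :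
    ∃ (k : ℕ) (q' : MvPolynomial ι B), (T.xS φ i {i} ^ k) *
      T.scS φ {i} (X.presheaf.map (homOfLE (T.inf_le_U (Finset.mem_singleton_self i))).op
        (MvPolynomial.eval₂Hom (φV φ (T.U i)) (T.t i) q)) = (T.sys φ).act {i} q' := by
  have hi := Finset.mem_singleton_self i
  have hX : (T.sys φ).act {i} (MvPolynomial.X i) = T.xS φ i {i} := (T.sys φ).act_X {i} i
  induction q using MvPolynomial.induction_on with
  | C b =>
    refine ⟨0, MvPolynomial.C b, ?_⟩
    rw [pow_zero, one_mul, MvPolynomial.eval₂Hom_C, ← MvPolynomial.algebraMap_eq, AlgHom.commutes]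
    refine LinearMap.ext fun m => funext fun d => ?_
    rw [scS_apply, res_φV]
    rfl
  | add p q hp hq =>
    obtain ⟨k, p', hp⟩ := hp
    obtain ⟨l, q', hq⟩ := hq
    refine ⟨k + l, MvPolynomial.X i ^ l * p' + MvPolynomial.X i ^ k * q', ?_⟩
    rw [map_add, map_add, map_add, map_add, mul_add, map_mul, map_mul, map_pow, map_pow, hX, ← hp, ← hq,
      ← mul_assoc, ← mul_assoc, ← pow_add, ← pow_add, add_comm l k]
  | mul_X p a hp =>
    obtain ⟨k, p', hp⟩ := hp
    refine ⟨k + 1, p' * MvPolynomial.X a, ?_⟩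
    rw [map_mul, map_mul, map_mul, MvPolynomial.eval₂Hom_X', map_mul, ← hp,
      show (T.sys φ).act {i} (MvPolynomial.X a) = T.xS φ a {i} from (T.sys φ).act_X {i} a,
      T.xS_eq φ hi a, pow_succ]
    have hc := T.commute_scS_xS φ i {i}
      (X.presheaf.map (homOfLE (T.inf_le_U hi)).op (MvPolynomial.eval₂Hom (φV φ (T.U i)) (T.t i) p))
    have ht := T.commute_scS_xS φ i {i} (T.tS hi a)
    simp only [mul_assoc]
    congr 1
    rw [show X.presheaf.map (homOfLE (T.inf_le_U hi)).op (T.t i a) = T.tS hi a from rfl,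
      ← mul_assoc, ← hc.eq, mul_assoc, ← ht.eq]

/-- The system of a finite family is finitely generated. -/
theorem sys_FG (hgen : T.RatioGenerated φ)
    (hfin : ∀ i, Module.Finite Γ(X, T.U i) Γ(T.F 0, T.U i)) : (T.sys φ).FG := by
  intro i
  have hi := Finset.mem_singleton_self i
  have hne : ({i} : Finset ι).Nonempty := Finset.singleton_nonempty i
  obtain ⟨r, g, hg⟩ := @Module.Finite.exists_fin _ _ _ _ _ (hfin i)
  let g' : Fin r → Sec φ (T.F 0) (({i} : Finset ι).inf T.U) := fun s =>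
    secRes φ (T.F 0) (T.inf_le_U hi) (toSec φ (g s))
  refine ⟨r, fun _ => 0, fun s => Pi.single 0 (g' s), fun s => ?_, fun d y hy => ?_⟩
  · show T.projS φ 0 {i} _ = _
    simp [projS_apply]
  -- reduce to degree zero
  obtain ⟨k₀, N₀, hk₀⟩ : ∃ (k₀ N₀ : ℕ), d + k₀ = N₀ :=
    ⟨(-d).toNat, (d + (-d).toNat).toNat, by omega⟩
  have hy' : (T.xS φ i {i} ^ k₀) y ∈ (T.sys φ).Deg (N₀ : ℤ) {i} :=
    (T.sys φ).x_pow_mem hne i hk₀ hy
  obtain ⟨y₀, hy₀, hy₀e⟩ := (T.sys φ).pw_surjective (d := 0) (Pi.single i N₀)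
    (fun a ha => Pi.single_eq_of_ne (by simpa using ha) _) (by simp [Pi.single_apply]) hy'
  rw [Sys.pw_nsmul] at hy₀e
  -- the degree zero part is generated
  have hle : T.U i ≤ ({i} : Finset ι).inf T.U := (T.inf_singleton i).ge
  obtain ⟨c, hc⟩ := Submodule.mem_span_range_iff_exists_fun _ |>.1
    (hg ▸ Submodule.mem_top : (show Γ(T.F 0, T.U i) from secRes φ (T.F 0) hle (y₀ 0)) ∈
      Submodule.span Γ(X, T.U i) (Set.range g))
  let cS : Fin r → Γ(X, ({i} : Finset ι).inf T.U) := fun s =>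
    X.presheaf.map (homOfLE (T.inf_le_U hi)).op (c s)
  have hy₀sum : y₀ = ∑ s, T.scS φ {i} (cS s) (Pi.single 0 (g' s)) := funext fun e => by
    rw [Finset.sum_apply]
    simp only [scS_apply]
    by_cases he : e = 0
    · subst he
      simp only [Pi.single_eq_same]
      have h := congrArg (secRes φ (T.F 0) (T.inf_le_U hi)) (congrArg (toSec φ) hc)
      rw [show toSec φ (show Γ(T.F 0, T.U i) from secRes φ (T.F 0) hle (y₀ 0)) =
          secRes φ (T.F 0) hle (y₀ 0) from rfl, secRes_res, secRes_self] at h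
      rw [← h]
      refine (map_sum (secRes φ (T.F 0) (T.inf_le_U hi))
        (fun s => secMul φ (T.F 0) (c s) (toSec φ (g s))) Finset.univ).trans ?_
      exact Finset.sum_congr rfl fun s _ => secRes_mul φ _ _ _ _
    · rw [T.apply_eq_zero φ hy₀ he]
      exact (Finset.sum_eq_zero fun s _ => by rw [Pi.single_eq_of_ne he, map_zero]).symm
  choose q hq using fun s => hgen i (c s)
  choose k q' hkq using fun s => T.exists_pow_act_scS φ i (q s)
  let K : ℕ := Finset.univ.sup k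
  refine ⟨K + k₀, fun s => MvPolynomial.X i ^ (N₀ + (K - k s)) * q' s, ?_⟩
  have hX : (T.sys φ).act {i} (MvPolynomial.X i) = T.xS φ i {i} := (T.sys φ).act_X {i} i
  show (T.xS φ i {i} ^ (K + k₀)) y = _
  rw [pow_add, Module.End.mul_apply, ← hy₀e]
  show (T.xS φ i {i} ^ K) ((T.xS φ i {i} ^ N₀) y₀) = _
  rw [hy₀sum, map_sum, map_sum]
  refine Finset.sum_congr rfl fun s _ => ?_
  have hks : k s ≤ K := Finset.le_sup (Finset.mem_univ s)
  rw [map_mul, map_pow, hX, ← hkq s, hq s, ← mul_assoc, ← pow_add, Module.End.mul_apply,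
    ← Module.End.mul_apply, ← pow_add, show N₀ + (K - k s) + k s = K + N₀ by omega]

/-- The covering, indexed in the universe of the scheme. -/
abbrev U' : ULift.{u} ι → X.Opens := fun a => T.U a.down

/-- The tuple of opens of a tuple of indices. -/
lemma inter_U' {p : ℕ} (t : Fin (p + 1) → ULift.{u} ι) :
    inter (T.U') t = (img (ULift.down ∘ t)).inf T.U := by
  refine le_antisymm (Finset.le_inf fun a ha => ?_) (le_iInf fun k => ?_)
  · obtain ⟨k, rfl⟩ := mem_img.1 ha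
    exact inter_le T.U' t k
  · exact Finset.inf_le (mem_img.2 ⟨k, rfl⟩)

lemma acyclic (d : ℤ) : Acyclic T.U' (Coh.toAb (T.F d)) :=
  haveI := T.qcoh d
  acyclic_of_affine (T.F d) _ fun m i => by
    rw [T.inter_U' i]
    exact T.affine _ (img_nonempty _)

lemma cover' : (⊤ : X.Opens) ≤ iSup T.U' := by
  rw [← T.cover]
  exact iSup_le fun i => le_iSup T.U' ⟨i⟩

/-- Cochains of the system as cochains of the sheaf. -/
def toCC (d : ℤ) (p : ℕ) :
    ((T.sys φ).deg d).C p →+ CC T.U' (Coh.toAb (T.F d)).obj p where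
  toFun c t := (secRes φ (T.F d) (T.inter_U' t).le ((c (ULift.down ∘ t)).1 d) :)
  map_zero' := funext fun t => map_zero _
  map_add' a b := funext fun t => map_add (secRes φ (T.F d) (T.inter_U' t).le) _ _

lemma toCC_apply (d : ℤ) (p : ℕ) (c : ((T.sys φ).deg d).C p) (t : Fin (p + 1) → ULift.{u} ι) :
    (toSec φ (toCC φ T d p c t) : Sec φ (T.F d) _) =
      secRes φ (T.F d) (T.inter_U' t).le ((c (ULift.down ∘ t)).1 d) := rfl

lemma cochain_congr {d : ℤ} {p : ℕ} (c : ((T.sys φ).deg d).C p) {u u' : Fin (p + 1) → ι} (e : u = u')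
    {V : X.Opens} (h : V ≤ (img u).inf T.U) (h' : V ≤ (img u').inf T.U) :
    secRes φ (T.F d) h ((c u).1 d) = secRes φ (T.F d) h' ((c u').1 d) := by
  subst e; rfl

lemma toCC_injective (d : ℤ) (p : ℕ) : Function.Injective (toCC φ T d p) := by
  refine (injective_iff_map_eq_zero _).2 fun c hc => funext fun t => Subtype.ext (funext fun e => ?_)
  have hdeg := (T.sys φ).deg_mem (img_nonempty t) (c t)
  by_cases he : e = d
  · subst he
    have h := congrArg (secRes φ (T.F e) (T.inter_U' (ULift.up ∘ t)).ge) (congrArg (toSec φ) (congrFun hc (ULift.up ∘ t)))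
    rw [toCC_apply, secRes_res] at h
    refine (secRes_self φ (T.F e) le_rfl ((c t).1 e)).symm.trans ?_
    exact h.trans (map_zero _)
  · exact T.apply_eq_zero φ hdeg he

lemma toCC_surjective (d : ℤ) (p : ℕ) : Function.Surjective (toCC φ T d p) := by
  intro z
  let m : ∀ t : Fin (p + 1) → ι, T.MS φ (img t) := fun t =>
    Pi.single d (secRes φ (T.F d) (T.inter_U' (ULift.up ∘ t)).ge (toSec φ (z (ULift.up ∘ t))))
  refine ⟨fun t => (T.sys φ).degMk (m t) (show T.projS φ d _ (m t) = m t by simp [m, projS_apply]),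
    funext fun t => ?_⟩
  show secRes φ (T.F d) (T.inter_U' t).le (m (ULift.down ∘ t) d) = toSec φ (z t)
  simp only [m, Pi.single_eq_same, secRes_res]
  exact secRes_self φ (T.F d) le_rfl _

lemma cdiff_toCC (d : ℤ) (p : ℕ) (c : ((T.sys φ).deg d).C p) :
    cdiff T.U' (Coh.toAb (T.F d)).obj p (toCC φ T d p c) = toCC φ T d (p + 1) (((T.sys φ).deg d).d p c) := by
  funext t
  refine Eq.trans ?_ (Eq.symm ?_) (b := ∑ j : Fin (p + 2), (-1 : ℤ) ^ (j : ℕ) •
    secRes φ (T.F d) ((T.inter_U' t).le.trans (Finset.inf_mono (img_comp_subset (ULift.down ∘ t) j.succAbove)))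
      ((c ((ULift.down ∘ t) ∘ j.succAbove)).1 d))
  · rw [cdiff_apply]
    refine Finset.sum_congr rfl fun j _ => congrArg (fun w => (-1 : ℤ) ^ (j : ℕ) • w) ?_
    exact secRes_res φ (T.F d) _ _ _
  · show secRes φ (T.F d) _ ((((T.sys φ).deg d).d p c (ULift.down ∘ t)).1 d) = _
    let ψ : ((T.sys φ).deg d).M (img (ULift.down ∘ t)) →+ Sec φ (T.F d) ((img (ULift.down ∘ t)).inf T.U) :=
      { toFun := fun m => m.1 d, map_zero' := rfl, map_add' := fun _ _ => rfl }
    show secRes φ (T.F d) _ (ψ _) = _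
    rw [RSys.d_apply, map_sum, map_sum]
    refine Finset.sum_congr rfl fun j _ => ?_
    rw [map_zsmul, map_zsmul]
    refine congrArg (fun w => (-1 : ℤ) ^ (j : ℕ) • w) ?_
    show secRes φ (T.F d) _ ((((T.sys φ).deg d).res _ (c _)).1 d) = _
    rw [(T.sys φ).deg_res_coe (img_nonempty _)]
    exact secRes_res φ (T.F d) _ _ _

lemma toCC_smul (d : ℤ) (p : ℕ) (b : B) (c : ((T.sys φ).deg d).C p) :
    toCC φ T d p (b • c) =
      ccMap T.U' (Coh.smulAb (T.F d) (φ b)).hom p (toCC φ T d p c) := by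
  funext t
  show secRes φ (T.F d) (T.inter_U' t).le (b • (c (ULift.down ∘ t)).1 d) =
    (Coh.smulAb (T.F d) (φ b)).hom.app _ (secRes φ (T.F d) (T.inter_U' t).le ((c (ULift.down ∘ t)).1 d))
  rw [map_smul]
  rfl

lemma toCC_mem_Zc {d : ℤ} {p : ℕ} {c : ((T.sys φ).deg d).C p} (hc : c ∈ ((T.sys φ).deg d).Z p) :
    toCC φ T d p c ∈ Zc T.U' (Coh.toAb (T.F d)).obj p := by
  show cdiff _ _ p _ = 0
  rw [cdiff_toCC, ((T.sys φ).deg d).mem_Z.1 hc, map_zero]

lemma toCC_mem_Bc {d : ℤ} {p : ℕ} {c : ((T.sys φ).deg d).C p} (hc : c ∈ ((T.sys φ).deg d).Bd p) :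
    toCC φ T d p c ∈ Bc T.U' (Coh.toAb (T.F d)).obj p := by
  cases p with
  | zero =>
    rw [show c = 0 from hc, map_zero]
    exact zero_mem _
  | succ p =>
    obtain ⟨b, rfl⟩ := hc
    exact ⟨toCC φ T d p b, cdiff_toCC φ T d p b⟩

/-- Finiteness. -/
theorem finite_HH [IsNoetherianRing B] (hgen : T.RatioGenerated φ)
    (hfin : ∀ i, Module.Finite Γ(X, T.U i) Γ(T.F 0, T.U i)) (d : ℤ) (p : ℕ) :
    @Module.Finite B (Coh.HH X (T.F d) p) _ _
      (Module.compHom (Coh.HH X (T.F d) p) (topHom φ)) := by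
  obtain ⟨G, hG, hle⟩ := (T.sys φ).finH_of_FG (T.sys_FG φ hgen hfin) d p
  obtain ⟨Φ, hΦs, hΦk, hΦn⟩ := hasComparisonNat T.U' T.cover' (T.acyclic d) p
  letI : Module B (Coh.HH X (T.F d) p) := Module.compHom (Coh.HH X (T.F d) p) (topHom φ)
  let e := HHEquiv (T.F d) p
  let ψ : ((T.sys φ).deg d).Z p →ₗ[B] Coh.HH X (T.F d) p :=
    { toFun := fun c => e.symm (Φ ⟨toCC φ T d p c.1, toCC_mem_Zc φ T c.2⟩)
      map_add' := fun a b => by
        rw [← map_add e.symm, ← map_add Φ]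
        exact congrArg (fun w => e.symm (Φ w)) (Subtype.ext (map_add _ _ _))
      map_smul' := fun b c => by
        apply e.injective
        rw [AddEquiv.apply_symm_apply]
        refine (hΦn (Coh.smulAb (T.F d) (φ b)) ⟨_, toCC_mem_Zc φ T c.2⟩ _
          (toCC_smul φ T d p b c.1)).trans ?_
        show _ = e (Sheaf.H.map (Coh.smulAb (T.F d) (φ b)) p (e.symm (Φ _)))
        rw [show e = HEquiv (Coh.toAb (T.F d)) p from rfl, HEquiv_map, AddEquiv.apply_symm_apply] }
  have hψ : Function.Surjective ψ := fun x => by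
    obtain ⟨z, hz⟩ := hΦs (e x)
    obtain ⟨c, hc⟩ := toCC_surjective φ T d p z.1
    refine ⟨⟨c, RSys.mem_Z _ |>.2 (toCC_injective φ T d (p + 1) ?_)⟩, ?_⟩
    · rw [← cdiff_toCC, hc, map_zero]
      exact z.2
    · show e.symm (Φ _) = x
      rw [show (⟨toCC φ T d p c, _⟩ : Zc T.U' (Coh.toAb (T.F d)).obj p) = z from Subtype.ext hc, hz,
        AddEquiv.symm_apply_apply]
  classical
  refine ⟨⟨G.attach.image fun g => ψ ⟨g.1, hG g.2⟩, eq_top_iff.2 fun x _ => ?_⟩⟩
  obtain ⟨c, rfl⟩ := hψ x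
  obtain ⟨a, ha, β, hβ, hab⟩ := Submodule.mem_sup.1 (hle c.2)
  obtain ⟨w, rfl⟩ := Submodule.mem_span_finset'.1 ha
  have hβz : β ∈ ((T.sys φ).deg d).Z p := ((T.sys φ).deg d).Bd_le_Z p hβ
  have hβ0 : ψ ⟨β, hβz⟩ = 0 := by
    show e.symm (Φ ⟨toCC φ T d p β, _⟩) = 0
    rw [(hΦk _).2 (toCC_mem_Bc φ T hβ), map_zero]
  have : c = (∑ g : G, w g • (⟨g.1, hG g.2⟩ : ((T.sys φ).deg d).Z p)) + ⟨β, hβz⟩ :=
    Subtype.ext (by simp [← hab])
  rw [this, map_add, map_sum, hβ0, add_zero]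
  refine Submodule.sum_mem _ fun g _ => ?_
  rw [map_smul]
  exact Submodule.smul_mem _ _ (Submodule.subset_span (Finset.mem_coe.2
    (Finset.mem_image.2 ⟨g, Finset.mem_attach _ _, rfl⟩)))

/-- Serre vanishing. -/
theorem exists_subsingleton_HH [IsNoetherianRing B] (hgen : T.RatioGenerated φ)
    (hfin : ∀ i, Module.Finite Γ(X, T.U i) Γ(T.F 0, T.U i)) (p : ℕ) (hp : 0 < p) :
    ∃ d₀ : ℤ, ∀ d, d₀ ≤ d → Subsingleton (Coh.HH X (T.F d) p) := by
  obtain ⟨d₀, hd₀⟩ := (T.sys φ).exists_vanH_of_FG (T.sys_FG φ hgen hfin) p hp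
  refine ⟨d₀, fun d hd => ?_⟩
  obtain ⟨Φ, hΦs, hΦk, -⟩ := hasComparisonNat T.U' T.cover' (T.acyclic d) p
  refine subsingleton_HH _ _ (subsingleton_of_forall_eq 0 fun x => ?_)
  obtain ⟨z, rfl⟩ := hΦs x
  obtain ⟨c, hc⟩ := toCC_surjective φ T d p z.1
  have hcZ : c ∈ ((T.sys φ).deg d).Z p := RSys.mem_Z _ |>.2 (toCC_injective φ T d (p + 1) (by
    rw [← cdiff_toCC, hc, map_zero]
    exact z.2))
  rw [hΦk, ← hc]
  exact toCC_mem_Bc φ T (hd₀ d hd hcZ)

/-- Vanishing above the number of opens. -/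
theorem subsingleton_HH_of_card_le (d : ℤ) (p : ℕ) (h : Fintype.card ι ≤ p + 1) :
    Subsingleton (Coh.HH X (T.F d) (p + 1)) := by
  let φ : Γ(X, ⊤) →+* Γ(X, ⊤) := RingHom.id _
  obtain ⟨Φ, hΦs, hΦk, -⟩ := hasComparisonNat T.U' T.cover' (T.acyclic d) (p + 1)
  refine subsingleton_HH _ _ (subsingleton_of_forall_eq 0 fun x => ?_)
  obtain ⟨z, rfl⟩ := hΦs x
  obtain ⟨c, hc⟩ := toCC_surjective φ T d (p + 1) z.1
  have hcZ : c ∈ ((T.sys φ).deg d).Z (p + 1) := RSys.mem_Z _ |>.2 (toCC_injective φ T d (p + 1 + 1) (by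
    rw [← cdiff_toCC, hc, map_zero]
    exact z.2))
  rw [hΦk, ← hc]
  exact toCC_mem_Bc φ T (((T.sys φ).deg d).vanH_of_card_le p h hcZ)

end TwistData

end Groth.Agent.ProjCoh
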