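import Groth.Agent.ProjCoh.SchSys
import Groth.Agent.DCohLib.StalkTensor
import Groth.Agent.DCohLib.PullKFlat
import Groth.Agent.PullbackMod.Hom
import Groth.Agent.QCohLib.Criterion
import Groth.Prelude.Def_CohB1

/-!
# Multiplication data and their pullbacks and tensor products

The conditions on multiplication maps are transported through stalks.
-/

set_option autoImplicit false

universe u

open CategoryTheory TopologicalSpace AlgebraicGeometry Opposite
open Groth.Agent.PullbackMod Groth.Agent.CohBase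

noncomputable section

namespace Groth.Agent.ProjCoh

variable {X Y : Scheme.{u}}

section Stalk

variable {M N : X.Modules}

/-- Bijectivity on the opens inside `U` is bijectivity on stalks. -/
lemma stalk_bijective_of_app (φ : M ⟶ N) {U : X.Opens}
    (h : ∀ V : X.Opens, V ≤ U → Function.Bijective (φ.app V)) {x : X} (hx : x ∈ U) :
    Function.Bijective (stalkLin φ x) := by
  refine ⟨(injective_iff_map_eq_zero _).2 fun a ha => ?_, fun b => ?_⟩
  · obtain ⟨W, hW, m, rfl⟩ := TopCat.Presheaf.exists_germ_eq M.presheaf a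
    rw [stalkLin_germ φ x hW] at ha
    obtain ⟨W', hW', i, i', hres⟩ := TopCat.Presheaf.germ_eq N.presheaf x hW hW (φ.app W m) 0
      (ha.trans (map_zero _).symm)
    have e : φ.app (W' ⊓ U) (M.presheaf.map (homOfLE (inf_le_left.trans i.le : W' ⊓ U ≤ W)).op m) = 0 := by
      refine (NatTrans.naturality_apply φ.mapPresheaf _ m).trans ?_
      have e' := congrArg (N.presheaf.map (homOfLE (inf_le_left : W' ⊓ U ≤ W')).op) hres
      rw [map_zero, map_zero] at e'
      refine Eq.trans ?_ e'
      exact (restr_trans N i.le (inf_le_left : W' ⊓ U ≤ W') (φ.app W m)).symm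
    rw [← M.presheaf.germ_res_apply (homOfLE (inf_le_left.trans i.le : W' ⊓ U ≤ W)) x (show x ∈ W' ⊓ U from ⟨hW', hx⟩) m,
      (h _ inf_le_right).1 (e.trans (map_zero (φ.app (W' ⊓ U)).hom).symm), map_zero]
  · obtain ⟨W, hW, n, rfl⟩ := TopCat.Presheaf.exists_germ_eq N.presheaf b
    obtain ⟨m, hm⟩ := (h (W ⊓ U) inf_le_right).2 (N.presheaf.map (homOfLE inf_le_left).op n)
    refine ⟨M.presheaf.germ (W ⊓ U) x (show x ∈ W ⊓ U from ⟨hW, hx⟩) m, ?_⟩
    rw [stalkLin_germ φ x (show x ∈ W ⊓ U from ⟨hW, hx⟩), hm]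
    exact N.presheaf.germ_res_apply _ x _ n

lemma app_bijective_of_stalk (φ : M ⟶ N) {U : X.Opens}
    (h : ∀ x ∈ U, Function.Bijective (stalkLin φ x)) {V : X.Opens} (hV : V ≤ U) :
    Function.Bijective (φ.app V) :=
  TopCat.Presheaf.app_bijective_of_stalkFunctor_map_bijective
    (F := (⟨M.presheaf, M.isSheaf⟩ : TopCat.Sheaf Ab X.toTopCat)) (G := ⟨N.presheaf, N.isSheaf⟩)
    ⟨φ.mapPresheaf⟩ V fun x hx => h x (hV hx)

lemma stalk_ratio_of_app (φ ψ : M ⟶ N) {U : X.Opens} (c : Γ(X, U))
    (h : ∀ (V : X.Opens) (hV : V ≤ U) (s : Γ(M, V)),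
      φ.app V s = X.presheaf.map (homOfLE hV).op c • ψ.app V s)
    {x : X} (hx : x ∈ U) (z : M.presheaf.stalk x) :
    stalkLin φ x z = X.presheaf.germ U x hx c • stalkLin ψ x z := by
  obtain ⟨W, hW, m, rfl⟩ := TopCat.Presheaf.exists_germ_eq M.presheaf z
  rw [← M.presheaf.germ_res_apply (homOfLE (inf_le_left : W ⊓ U ≤ W)) x (show x ∈ W ⊓ U from ⟨hW, hx⟩) m,
    stalkLin_germ φ x (show x ∈ W ⊓ U from ⟨hW, hx⟩), stalkLin_germ ψ x (show x ∈ W ⊓ U from ⟨hW, hx⟩), h _ inf_le_right,
    ← X.presheaf.germ_res_apply (homOfLE (inf_le_right : W ⊓ U ≤ U)) x (show x ∈ W ⊓ U from ⟨hW, hx⟩) c]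
  exact PresheafOfModules.germ_smul (R := X.presheaf) N.val x (W ⊓ U) ⟨hW, hx⟩ _ _

lemma app_ratio_of_stalk (φ ψ : M ⟶ N) {U : X.Opens} (c : Γ(X, U))
    (h : ∀ (x : X) (hx : x ∈ U) (z : M.presheaf.stalk x),
      stalkLin φ x z = X.presheaf.germ U x hx c • stalkLin ψ x z)
    {V : X.Opens} (hV : V ≤ U) (s : Γ(M, V)) :
    φ.app V s = X.presheaf.map (homOfLE hV).op c • ψ.app V s := by
  refine TopCat.Presheaf.section_ext (X := X.toTopCat) ⟨N.presheaf, N.isSheaf⟩ V _ _ fun x hx => ?_
  refine (stalkLin_germ φ x hx s).symm.trans ((h x (hV hx) _).trans ?_)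
  rw [stalkLin_germ ψ x hx, ← X.presheaf.germ_res_apply (homOfLE hV) x hx c]
  exact (PresheafOfModules.germ_smul (R := X.presheaf) N.val x V hx _ _).symm

end Stalk

/-- Multiplication data. -/
structure MulData (X : Scheme.{u}) (ι : Type) where
  /-- The covering. -/
  U : ι → X.Opens
  cover : iSup U = ⊤
  /-- The modules. -/
  F : ℤ → X.Modules
  /-- Multiplication by the coordinates. -/
  μ : ι → ∀ d : ℤ, F (d - 1) ⟶ F d
  /-- The ratio of two coordinates. -/
  t : ∀ i : ι, ι → Γ(X, U i)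
  t_open : ∀ i a, X.basicOpen (t i a) = U i ⊓ U a
  bij : ∀ i d (x : X), x ∈ U i → Function.Bijective (stalkLin (μ i d) x)
  ratio : ∀ i a d (x : X) (hx : x ∈ U i) (z : (F (d - 1)).presheaf.stalk x),
    stalkLin (μ a d) x z = X.presheaf.germ (U i) x hx (t i a) • stalkLin (μ i d) x z

variable {ι : Type}

namespace MulData

/-- The pullback of multiplication data. -/
def pullback (T : MulData Y ι) (g : X ⟶ Y) : MulData X ι where
  U i := g ⁻¹ᵁ T.U i
  cover := by rw [← g.preimage_iSup, T.cover, g.preimage_top]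
  F d := (Scheme.Modules.pullback g).obj (T.F d)
  μ i d := (Scheme.Modules.pullback g).map (T.μ i d)
  t i a := g.app (T.U i) (T.t i a)
  t_open i a := by
    rw [← Scheme.preimage_basicOpen, T.t_open]
    rfl
  bij i d x hx := by
    letI := (g.stalkMap x).hom.toAlgebra
    obtain ⟨hi, hs⟩ := T.bij i d (g x) hx
    refine ⟨(injective_stalk_pullback_iff g (T.μ i d) x).2 ?_,
      (surjective_stalk_pullback_iff g (T.μ i d) x).2 (LinearMap.lTensor_surjective _ hs)⟩
    exact (LinearEquiv.lTensor _ (LinearEquiv.ofBijective (stalkLin (T.μ i d) (g x)) ⟨hi, hs⟩)).injective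
  ratio i a d x hx z := by
    letI := (g.stalkMap x).hom.toAlgebra
    obtain ⟨w, rfl⟩ := (DCohLib.pullStalkEquiv g x (T.F (d - 1))).surjective z
    induction w using TensorProduct.induction_on with
    | zero => simp
    | add p q hp hq => rw [map_add, map_add, map_add, smul_add, hp, hq]
    | tmul b m =>
      rw [DCohLib.pullStalkEquiv_tmul, map_smul, map_smul, pullStalk_natural, pullStalk_natural,
        T.ratio i a d (g x) hx m, pullStalk_smul, smul_comm b]
      refine congrArg (fun c => c • _) ?_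
      exact (Scheme.Hom.germ_stalkMap_apply g (T.U i) x hx (T.t i a))

/-- Tensoring multiplication data with a module. -/
def tensor (T : MulData X ι) (M : X.Modules) : MulData X ι where
  U := T.U
  cover := T.cover
  F d := ((DCoh.tensorBi (X := X)).obj M).obj (T.F d)
  μ i d := ((DCoh.tensorBi (X := X)).obj M).map (T.μ i d)
  t := T.t
  t_open := T.t_open
  bij i d x hx := by
    have hb : Function.Bijective ((stalkLin (T.μ i d) x).lTensor (M.presheaf.stalk x)) :=
      (LinearEquiv.lTensor _ (LinearEquiv.ofBijective _ (T.bij i d x hx))).bijective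
    have he : (stalkLin (((DCoh.tensorBi (X := X)).obj M).map (T.μ i d)) x : _ → _) ∘
        DCohLib.stalkTensor x M (T.F (d - 1)) =
      DCohLib.stalkTensor x M (T.F d) ∘ (stalkLin (T.μ i d) x).lTensor (M.presheaf.stalk x) :=
      funext fun w => DCohLib.stalkTensor_natural_right x (T.μ i d) w
    refine (Function.Bijective.of_comp_iff _ (DCohLib.stalkTensor x M (T.F (d - 1))).bijective).1 ?_
    rw [he]
    exact (DCohLib.stalkTensor x M (T.F d)).bijective.comp hb
  ratio i a d x hx z := by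
    obtain ⟨w, rfl⟩ := (DCohLib.stalkTensor x M (T.F (d - 1))).surjective z
    rw [DCohLib.stalkTensor_natural_right, DCohLib.stalkTensor_natural_right, ← map_smul]
    refine congrArg _ ?_
    induction w using TensorProduct.induction_on with
    | zero => simp
    | add p q hp hq => rw [map_add, map_add, smul_add, hp, hq]
    | tmul m n => rw [LinearMap.lTensor_tmul, LinearMap.lTensor_tmul, T.ratio i a d x hx n,
        TensorProduct.tmul_smul]

lemma app_bij (T : MulData X ι) (i : ι) (d : ℤ) {V : X.Opens} (hV : V ≤ T.U i) :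
    Function.Bijective ((T.μ i d).app V) :=
  app_bijective_of_stalk _ (fun x hx => T.bij i d x hx) hV

/-- Localization at basic opens passes along the multiplication maps. -/
lemma locAt_succ_iff (T : MulData X ι) (i : ι) (d : ℤ) :
    QCohLib.LocAt (T.F (d - 1)) (T.U i) ↔ QCohLib.LocAt (T.F d) (T.U i) := by
  have hb := fun (V : X.Opens) (hV : V ≤ T.U i) => T.app_bij i d hV
  have hsc : ∀ (c : Γ(X, T.U i)) (V : X.Opens) (hV : V ≤ T.U i) (s : Γ(T.F (d - 1), V)),
      (T.μ i d).app V (sc c hV s) = sc c hV ((T.μ i d).app V s) := fun c V hV s =>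
    Scheme.Modules.Hom.app_smul (T.μ i d) _ s
  have hres : ∀ (V : X.Opens) (hV : V ≤ T.U i) (s : Γ(T.F (d - 1), T.U i)),
      (T.μ i d).app V ((T.F (d - 1)).presheaf.map (homOfLE hV).op s) =
        (T.F d).presheaf.map (homOfLE hV).op ((T.μ i d).app (T.U i) s) := fun V hV s =>
    NatTrans.naturality_apply (T.μ i d).mapPresheaf (homOfLE hV).op s
  constructor
  · refine fun h => ⟨fun f t => ?_, fun f s hs => ?_⟩
    · obtain ⟨t, rfl⟩ := (hb _ (X.basicOpen_le f)).2 t
      obtain ⟨n, s, hs⟩ := h.extend f t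
      exact ⟨n, (T.μ i d).app _ s, by rw [← hres, hs, hsc]⟩
    · obtain ⟨s, rfl⟩ := (hb _ le_rfl).2 s
      obtain ⟨n, hn⟩ := h.kill f s ((hb _ (X.basicOpen_le f)).1
        (((hres _ _ _).trans hs).trans (map_zero ((T.μ i d).app (X.basicOpen f)).hom).symm))
      exact ⟨n, by rw [← hsc, hn, map_zero]⟩
  · refine fun h => ⟨fun f t => ?_, fun f s hs => ?_⟩
    · obtain ⟨n, s, hs⟩ := h.extend f ((T.μ i d).app _ t)
      obtain ⟨s, rfl⟩ := (hb _ le_rfl).2 s
      exact ⟨n, s, (hb _ (X.basicOpen_le f)).1 (by rw [hres, hs, hsc])⟩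
    · obtain ⟨n, hn⟩ := h.kill f ((T.μ i d).app _ s) (by rw [← hres, hs, map_zero])
      exact ⟨n, (hb _ le_rfl).1 (by rw [hsc, hn, map_zero])⟩

theorem isQCoh_F (T : MulData X ι) (h : Coh.IsQCoh (T.F 0)) (hU : ∀ i, IsAffineOpen (T.U i))
    (d : ℤ) : Coh.IsQCoh (T.F d) := by
  haveI := h
  refine QCohLib.isQCoh_of_locAt _ (fun i : ULift.{u} ι => T.U i.down) (fun i => hU _) ?_ fun i => ?_
  · rw [← top_le_iff, ← T.cover]
    exact iSup_le fun i => le_iSup (fun i : ULift.{u} ι => T.U i.down) ⟨i⟩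
  have h0 := QCohLib.locAt (T.F 0) (hU i.down)
  have step : ∀ e : ℤ, QCohLib.LocAt (T.F e) (T.U i.down) ↔ QCohLib.LocAt (T.F (e + 1)) (T.U i.down) :=
    fun e => by
      have := T.locAt_succ_iff i.down (e + 1)
      rwa [add_sub_cancel_right] at this
  induction d using Int.induction_on with
  | zero => exact h0
  | succ n ih => exact (step _).1 ih
  | pred n ih =>
    refine (step _).2 ?_
    rwa [sub_add_cancel]

/-- The twisted family of multiplication data. -/
def toTwistData [DecidableEq ι] [Fintype ι] (T : MulData X ι) (h : Coh.IsQCoh (T.F 0))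
    (hU : ∀ S : Finset ι, S.Nonempty → IsAffineOpen (S.inf T.U)) : TwistData X ι where
  U := T.U
  affine := hU
  cover := T.cover
  F := T.F
  qcoh := T.isQCoh_F h fun i => by simpa using hU {i} (Finset.singleton_nonempty i)
  μ := T.μ
  bij i d _ hV := T.app_bij i d hV
  t := T.t
  t_open := T.t_open
  ratio i a d _ hV s := app_ratio_of_stalk _ _ _ (fun x hx z => T.ratio i a d x hx z) hV s

end MulData

end Groth.Agent.ProjCoh
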