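import Groth.Agent.CechSys.Main
import Groth.Agent.CohBase.Localization
import Groth.Agent.CohBase.Cech
import Groth.Prelude.Def_Coh

/-!
# Twisted families of modules as graded Čech systems

A `TwistData` on a scheme is a family `F d` of quasi-coherent modules with multiplication maps
`μ i d : F (d - 1) ⟶ F d`, bijective over `U i`, with the ratios given by functions `t i a`.
-/

set_option autoImplicit false

universe u

open CategoryTheory TopologicalSpace AlgebraicGeometry Opposite
open Groth.Agent.CohBase Groth.Agent.CechSys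

noncomputable section

namespace Groth.Agent.ProjCoh

variable {X : Scheme.{u}} {B : Type u} [CommRing B]

/-- Sections, as a module over `B`. -/
def Sec (_φ : B →+* Γ(X, ⊤)) (M : X.Modules) (V : X.Opens) : Type u := Γ(M, V)

variable (φ : B →+* Γ(X, ⊤))

instance (M : X.Modules) (V : X.Opens) : AddCommGroup (Sec φ M V) :=
  inferInstanceAs (AddCommGroup Γ(M, V))

/-- The structure map to functions on an open. -/
def φV (V : X.Opens) : B →+* Γ(X, V) := (X.presheaf.map (homOfLE (le_top : V ≤ ⊤)).op).hom.comp φ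

lemma res_φV {V V' : X.Opens} (h : V' ≤ V) (b : B) :
    X.presheaf.map (homOfLE h).op (φV φ V b) = φV φ V' b := by
  change (X.presheaf.map _ ≫ X.presheaf.map _) (φ b) = _
  rw [← X.presheaf.map_comp]
  rfl

instance (M : X.Modules) (V : X.Opens) : Module B (Sec φ M V) :=
  letI : Module Γ(X, V) (Sec φ M V) := inferInstanceAs (Module Γ(X, V) Γ(M, V))
  Module.compHom (Sec φ M V) (φV φ V)

/-- A section, with values in `Sec`. -/
def toSec {M : X.Modules} {V : X.Opens} (s : Γ(M, V)) : Sec φ M V := s

variable {φ}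

lemma sec_smul {M : X.Modules} {V : X.Opens} (b : B) (s : Sec φ M V) :
    b • s = toSec φ (φV φ V b • (show Γ(M, V) from s)) := rfl

variable (φ)

/-- Restriction. -/
def secRes (M : X.Modules) {V V' : X.Opens} (h : V' ≤ V) : Sec φ M V →ₗ[B] Sec φ M V' where
  toFun s := M.presheaf.map (homOfLE h).op s
  map_add' := map_add (M.presheaf.map (homOfLE h).op).hom
  map_smul' b s := by
    refine (M.val.map_smul (homOfLE h).op (φV φ V b) s).trans ?_
    simp only [RingHom.id_apply, sec_smul, toSec]
    congr 1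
    exact res_φV φ h b

lemma secRes_self (M : X.Modules) {V : X.Opens} (h : V ≤ V) (s : Sec φ M V) :
    secRes φ M h s = s := restr_self M h s

lemma secRes_res (M : X.Modules) {V V' V'' : X.Opens} (h : V' ≤ V) (h' : V'' ≤ V') (s : Sec φ M V) :
    secRes φ M h' (secRes φ M h s) = secRes φ M (h'.trans h) s := restr_trans M h h' s

/-- A map of modules on sections. -/
def secMap {M N : X.Modules} (f : M ⟶ N) (V : X.Opens) : Sec φ M V →ₗ[B] Sec φ N V where
  toFun s := f.app V s
  map_add' := map_add (f.app V).hom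
  map_smul' b s := Scheme.Modules.Hom.app_smul f (φV φ V b) s

lemma secMap_res {M N : X.Modules} (f : M ⟶ N) {V V' : X.Opens} (h : V' ≤ V) (s : Sec φ M V) :
    secRes φ N h (secMap φ f V s) = secMap φ f V' (secRes φ M h s) :=
  (NatTrans.naturality_apply f.mapPresheaf (homOfLE h).op s).symm

/-- Multiplication by a function. -/
def secMul (M : X.Modules) {V : X.Opens} : Γ(X, V) →+* Module.End B (Sec φ M V) :=
  letI : Module Γ(X, V) (Sec φ M V) := inferInstanceAs (Module Γ(X, V) Γ(M, V))
  { toFun := fun c =>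
      { toFun := fun s => c • s
        map_add' := smul_add c
        map_smul' := fun b s => by
          change c • (φV φ V b • s) = φV φ V b • (c • s)
          rw [smul_smul, smul_smul, mul_comm] }
    map_one' := LinearMap.ext fun s => one_smul _ s
    map_mul' := fun a b => LinearMap.ext fun s => mul_smul a b s
    map_zero' := LinearMap.ext fun s => zero_smul _ s
    map_add' := fun a b => LinearMap.ext fun s => add_smul a b s }

lemma secMap_mul {M N : X.Modules} (f : M ⟶ N) {V : X.Opens} (c : Γ(X, V)) (s : Sec φ M V) :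
    secMap φ f V (secMul φ M c s) = secMul φ N c (secMap φ f V s) :=
  Scheme.Modules.Hom.app_smul f c s

lemma secRes_mul (M : X.Modules) {V V' : X.Opens} (h : V' ≤ V) (c : Γ(X, V)) (s : Sec φ M V) :
    secRes φ M h (secMul φ M c s) = secMul φ M (X.presheaf.map (homOfLE h).op c) (secRes φ M h s) :=
  M.val.map_smul (homOfLE h).op c s

/-- Twisted families. -/
structure TwistData (X : Scheme.{u}) (ι : Type) [DecidableEq ι] [Fintype ι] where
  /-- The covering. -/
  U : ι → X.Opens
  affine : ∀ S : Finset ι, S.Nonempty → IsAffineOpen (S.inf U)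
  cover : iSup U = ⊤
  /-- The modules. -/
  F : ℤ → X.Modules
  qcoh : ∀ d, Coh.IsQCoh (F d)
  /-- Multiplication by the coordinates. -/
  μ : ι → ∀ d : ℤ, F (d - 1) ⟶ F d
  bij : ∀ i d (V : X.Opens), V ≤ U i → Function.Bijective ((μ i d).app V)
  /-- The ratio of two coordinates. -/
  t : ∀ i : ι, ι → Γ(X, U i)
  t_open : ∀ i a, X.basicOpen (t i a) = U i ⊓ U a
  ratio : ∀ i a d (V : X.Opens) (h : V ≤ U i) (s : Γ(F (d - 1), V)),
    (μ a d).app V s = X.presheaf.map (homOfLE h).op (t i a) • (μ i d).app V s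

variable {ι : Type} [DecidableEq ι] [Fintype ι] (T : TwistData X ι)

namespace TwistData

lemma inf_le_U {S : Finset ι} {i : ι} (hi : i ∈ S) : S.inf T.U ≤ T.U i := Finset.inf_le hi

/-- The graded family of sections. -/
abbrev MS (S : Finset ι) : Type u := ∀ d : ℤ, Sec φ (T.F d) (S.inf T.U)

/-- Multiplication by a coordinate. -/
def xS (a : ι) (S : Finset ι) : Module.End B (T.MS φ S) :=
  LinearMap.pi fun d => (secMap φ (T.μ a d) _).comp (LinearMap.proj (d - 1))

lemma xS_apply (a : ι) (S : Finset ι) (m : T.MS φ S) (d : ℤ) :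
    T.xS φ a S m d = secMap φ (T.μ a d) _ (m (d - 1)) := rfl

/-- Pointwise multiplication by a function. -/
def scS (S : Finset ι) : Γ(X, S.inf T.U) →+* Module.End B (T.MS φ S) where
  toFun c := LinearMap.pi fun d => (secMul φ (T.F d) c).comp (LinearMap.proj d)
  map_one' := LinearMap.ext fun m => funext fun d => by simp
  map_mul' a b := LinearMap.ext fun m => funext fun d => by simp
  map_zero' := LinearMap.ext fun m => funext fun d => by simp
  map_add' a b := LinearMap.ext fun m => funext fun d => by simp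

lemma scS_apply (S : Finset ι) (c : Γ(X, S.inf T.U)) (m : T.MS φ S) (d : ℤ) :
    T.scS φ S c m d = secMul φ (T.F d) c (m d) := rfl

lemma commute_scS_xS (a : ι) (S : Finset ι) (c : Γ(X, S.inf T.U)) :
    Commute (T.scS φ S c) (T.xS φ a S) :=
  LinearMap.ext fun m => funext fun d => (secMap_mul φ (T.μ a d) c _).symm

/-- The ratio on an intersection. -/
def tS {S : Finset ι} {i : ι} (hi : i ∈ S) (a : ι) : Γ(X, S.inf T.U) :=
  X.presheaf.map (homOfLE (T.inf_le_U hi)).op (T.t i a)

lemma xS_eq {S : Finset ι} {i : ι} (hi : i ∈ S) (a : ι) :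
    T.xS φ a S = T.scS φ S (T.tS hi a) * T.xS φ i S :=
  LinearMap.ext fun _ => funext fun d => T.ratio i a d _ (T.inf_le_U hi) _

lemma basicOpen_tS {S : Finset ι} {i : ι} (hi : i ∈ S) (a : ι) :
    X.basicOpen (T.tS hi a) = (insert a S).inf T.U := by
  rw [tS, Scheme.basicOpen_res, T.t_open, Finset.inf_insert]
  refine le_antisymm (le_inf (inf_le_right.trans inf_le_right) inf_le_left)
    (le_inf inf_le_right (le_inf (inf_le_right.trans (T.inf_le_U hi)) inf_le_left))

lemma μ_comm (a b : ι) (d : ℤ) {V : X.Opens} (s : Sec φ (T.F (d - 1 - 1)) V) :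
    secMap φ (T.μ a d) V (secMap φ (T.μ b (d - 1)) V s) =
      secMap φ (T.μ b d) V (secMap φ (T.μ a (d - 1)) V s) := by
  refine TopCat.Sheaf.eq_of_locally_eq' (X := X.toTopCat) ⟨(T.F d).presheaf, (T.F d).isSheaf⟩
    (fun i : ι => V ⊓ T.U i) V (fun i => homOfLE inf_le_left)
    (fun x hx => by
      have : x ∈ iSup T.U := T.cover ▸ trivial
      obtain ⟨i, hi⟩ := Opens.mem_iSup.1 this
      exact Opens.mem_iSup.2 ⟨i, hx, hi⟩) _ _ fun i => ?_
  show secRes φ _ (inf_le_left : V ⊓ T.U i ≤ V) _ = secRes φ _ (inf_le_left : V ⊓ T.U i ≤ V) _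
  simp only [secMap_res]
  have h : V ⊓ T.U i ≤ T.U i := inf_le_right
  have e : ∀ (a : ι) (e : ℤ) (s : Sec φ (T.F (e - 1)) (V ⊓ T.U i)), secMap φ (T.μ a e) _ s =
      secMul φ _ (X.presheaf.map (homOfLE h).op (T.t i a)) (secMap φ (T.μ i e) _ s) :=
    fun a e s => T.ratio i a e _ h s
  rw [e a, e b, e b d, e a (d - 1)]
  simp only [secMap_mul, ← Module.End.mul_apply, ← map_mul, mul_comm]

lemma xS_comm (a b : ι) (S : Finset ι) : T.xS φ a S * T.xS φ b S = T.xS φ b S * T.xS φ a S :=
  LinearMap.ext fun _ => funext fun d => T.μ_comm φ a b d _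

/-- Restriction. -/
def resS {S S' : Finset ι} (h : S ⊆ S') : T.MS φ S →ₗ[B] T.MS φ S' :=
  LinearMap.pi fun d => (secRes φ (T.F d) (Finset.inf_mono h)).comp (LinearMap.proj d)

lemma resS_apply {S S' : Finset ι} (h : S ⊆ S') (m : T.MS φ S) (d : ℤ) :
    T.resS φ h m d = secRes φ (T.F d) (Finset.inf_mono h) (m d) := rfl

lemma resS_xS {S S' : Finset ι} (h : S ⊆ S') (a : ι) (m : T.MS φ S) :
    T.resS φ h (T.xS φ a S m) = T.xS φ a S' (T.resS φ h m) :=
  funext fun d => secMap_res φ (T.μ a d) _ _

lemma resS_xS_pow {S S' : Finset ι} (h : S ⊆ S') (a : ι) (k : ℕ) (m : T.MS φ S) :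
    T.resS φ h ((T.xS φ a S ^ k) m) = (T.xS φ a S' ^ k) (T.resS φ h m) := by
  induction k with
  | zero => simp
  | succ k ih => rw [pow_succ', pow_succ', Module.End.mul_apply, Module.End.mul_apply, resS_xS, ih]

lemma resS_scS {S S' : Finset ι} (h : S ⊆ S') (c : Γ(X, S.inf T.U)) (m : T.MS φ S) :
    T.resS φ h (T.scS φ S c m) =
      T.scS φ S' (X.presheaf.map (homOfLE (Finset.inf_mono h)).op c) (T.resS φ h m) :=
  funext fun d => secRes_mul φ (T.F d) _ c _

lemma tS_res {S S' : Finset ι} (h : S ⊆ S') {i : ι} (hi : i ∈ S) (a : ι) :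
    X.presheaf.map (homOfLE (Finset.inf_mono h)).op (T.tS hi a) = T.tS (h hi) a := by
  change (X.presheaf.map _ ≫ X.presheaf.map _) (T.t i a) = _
  rw [← X.presheaf.map_comp]
  rfl

/-- Projection to a degree. -/
def projS (d : ℤ) (S : Finset ι) : Module.End B (T.MS φ S) :=
  (LinearMap.single B (fun e : ℤ => Sec φ (T.F e) (S.inf T.U)) d).comp (LinearMap.proj d)

lemma projS_apply (d : ℤ) (S : Finset ι) (m : T.MS φ S) : T.projS φ d S m = Pi.single d (m d) := rfl

lemma apply_eq_zero {d : ℤ} {S : Finset ι} {m : T.MS φ S} (hm : T.projS φ d S m = m) {e : ℤ}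
    (he : e ≠ d) : m e = 0 := by
  rw [← hm, projS_apply, Pi.single_eq_of_ne he]

lemma commute_projS_scS (d : ℤ) (S : Finset ι) (c : Γ(X, S.inf T.U)) :
    Commute (T.projS φ d S) (T.scS φ S c) := by
  refine LinearMap.ext fun m => funext fun e => ?_
  rw [Module.End.mul_apply, Module.End.mul_apply, projS_apply, scS_apply, scS_apply, projS_apply]
  by_cases he : e = d
  · subst he; rw [Pi.single_eq_same, Pi.single_eq_same]
  · rw [Pi.single_eq_of_ne he, Pi.single_eq_of_ne he, map_zero]

/-- The graded system of a twisted family. -/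
abbrev sys : Sys ι B where
  M := T.MS φ
  res h := T.resS φ h
  res_self _ m := funext fun d => secRes_self φ (T.F d) _ (m d)
  res_res _ _ m := funext fun d => secRes_res φ (T.F d) _ _ (m d)
  x a S := T.xS φ a S
  x_comm a b S := T.xS_comm φ a b S
  x_res a _ _ _ h m := T.resS_xS φ h a m
  proj d S := T.projS φ d S
  proj_proj d S m := by simp [projS_apply]
  proj_orth d e S h m := by simp [projS_apply, Pi.single_eq_of_ne h]
  proj_x d a S m _ := funext fun e => by
    rw [projS_apply, xS_apply, xS_apply, projS_apply]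
    by_cases he : e = d + 1
    · subst he
      rw [Pi.single_eq_same]
      congr 1
      exact (congr_fun_single (d + 1 - 1) d (by ring) m).symm
    · rw [Pi.single_eq_of_ne he, Pi.single_eq_of_ne (show e - 1 ≠ d by omega), map_zero]
  proj_res d S S' _ h m := funext fun e => by
    rw [resS_apply, projS_apply, projS_apply]
    by_cases he : e = d
    · subst he; rw [Pi.single_eq_same, Pi.single_eq_same, resS_apply]
    · rw [Pi.single_eq_of_ne he, Pi.single_eq_of_ne he, map_zero]
  inj_x i S hi d m _ h := funext fun e => by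
    obtain ⟨e, rfl⟩ : ∃ e', e = e' - 1 := ⟨e + 1, by ring⟩
    exact (T.bij i e _ (T.inf_le_U hi)).1 ((congrFun h e).trans (map_zero (secMap φ (T.μ i e) _)).symm)
  surj_x i S hi d m hm := by
    obtain ⟨s, hs⟩ := (T.bij i (d + 1) _ (T.inf_le_U hi)).2 (m (d + 1))
    refine ⟨Pi.single (d + 1 - 1) (toSec φ s), ?_, funext fun e => ?_⟩
    · have key : ∀ e : ℤ, e = d → ∀ s' : Sec φ (T.F e) (S.inf T.U),
          T.projS φ d S (Pi.single e s') = Pi.single e s' := by
        rintro e rfl s'
        simp [projS_apply]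
      exact key _ (by ring) _
    · rw [xS_apply]
      by_cases he : e = d + 1
      · subst he
        rw [Pi.single_eq_same]
        exact hs
      · rw [Pi.single_eq_of_ne (show e - 1 ≠ d + 1 - 1 by omega), map_zero, T.apply_eq_zero φ hm he]
  loc_inj a S hS d m hm h := by
    obtain ⟨i, hi⟩ := hS
    haveI := T.qcoh d
    obtain ⟨n, hn⟩ := exists_pow_zero (T.F d) (T.affine S ⟨i, hi⟩) (T.tS hi a)
      (T.basicOpen_tS hi a).symm (m d) (congrFun h d)
    refine ⟨n, ?_⟩
    have hz : T.scS φ S (T.tS hi a ^ n) m = 0 := funext fun e => by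
      rw [scS_apply]
      by_cases he : e = d
      · subst he
        rw [sc_apply, show (homOfLE (le_refl (S.inf T.U))).op = 𝟙 _ from rfl, X.presheaf.map_id] at hn
        exact hn
      · rw [T.apply_eq_zero φ hm he, map_zero]
        rfl
    rw [T.xS_eq φ hi a, (T.commute_scS_xS φ i S _).mul_pow, ← map_pow,
      ((T.commute_scS_xS φ i S _).pow_right n).eq, Module.End.mul_apply, hz, map_zero]
  loc_surj a S hS d y hy := by
    obtain ⟨i, hi⟩ := hS
    haveI := T.qcoh d
    obtain ⟨n, s, hs⟩ := exists_pow_extend (T.F d) (T.affine S ⟨i, hi⟩) (T.tS hi a)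
      (T.basicOpen_tS hi a).symm (y d)
    let m₀ : T.MS φ S := Pi.single d (toSec φ s)
    have hres : T.resS φ (Finset.subset_insert a S) m₀ =
        T.scS φ _ (T.tS (Finset.mem_insert_of_mem hi) a ^ n) y := funext fun e => by
      rw [resS_apply, scS_apply]
      by_cases he : e = d
      · subst he
        simp only [m₀, Pi.single_eq_same]
        refine hs.trans ?_
        rw [sc_apply, map_pow, T.tS_res (Finset.subset_insert a S) hi]
        rfl
      · rw [T.apply_eq_zero φ hy he, map_zero]
        simp only [m₀, Pi.single_eq_of_ne he]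
        exact map_zero _
    refine ⟨n, (T.xS φ i S ^ n) m₀, proj_x_pow i S d n m₀ (by simp [projS_apply, m₀]), ?_⟩
    rw [T.resS_xS_pow φ, hres, T.xS_eq φ (Finset.mem_insert_of_mem hi) a,
      (T.commute_scS_xS φ i _ _).mul_pow, ← map_pow, ((T.commute_scS_xS φ i _ _).pow_right n).eq,
      Module.End.mul_apply]
where
  congr_fun_single {S : Finset ι} (e d : ℤ) (h : e = d) (m : T.MS φ S) :
      (Pi.single d (m d) : T.MS φ S) e = m e := by
    subst h; exact Pi.single_eq_same _ _
  proj_x_pow (i : ι) (S : Finset ι) (d : ℤ) (n : ℕ) (m : T.MS φ S) (hm : T.projS φ d S m = m) :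
      T.projS φ (d + n) S ((T.xS φ i S ^ n) m) = (T.xS φ i S ^ n) m := by
    induction n with
    | zero => simpa using hm
    | succ n ih =>
      rw [pow_succ', Module.End.mul_apply]
      funext e
      rw [projS_apply]
      by_cases he : e = d + (n + 1 : ℕ)
      · subst he; rw [Pi.single_eq_same]
      · rw [Pi.single_eq_of_ne he, xS_apply, T.apply_eq_zero φ ih (show e - 1 ≠ d + n by omega), map_zero]

end TwistData

end Groth.Agent.ProjCoh
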